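import Mathlib

set_option autoImplicit false
set_option linter.unusedSectionVars false

namespace Groth.Agent.H90.CB

open MvPolynomial

section
variable {k : Type*} [Field k] {ι : Type*} [Fintype ι] [DecidableEq ι]

/-- linear form attached to a functional -/
noncomputable def linForm (f : (ι → k) →ₗ[k] k) : MvPolynomial ι k :=
  ∑ i, C (f (Pi.single i 1)) * X i

lemma linForm_isHomogeneous (f : (ι → k) →ₗ[k] k) : (linForm f).IsHomogeneous 1 := by
  apply IsHomogeneous.sum
  intro i _
  have := (isHomogeneous_C ι (f (Pi.single i 1))).mul (isHomogeneous_X k i)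
  simpa using this

lemma eval_linForm (f : (ι → k) →ₗ[k] k) (v : ι → k) : eval v (linForm f) = f v := by
  unfold linForm
  rw [map_sum]
  simp only [map_mul, eval_C, eval_X]
  have hv' : v = ∑ j, v j • (Pi.single j 1 : ι → k) := by
    ext x
    simp [Finset.sum_apply, Pi.single_apply]
  conv_rhs => rw [hv', map_sum]
  apply Finset.sum_congr rfl
  intro j _
  rw [map_smul, smul_eq_mul, mul_comm]

/-- the Cayley–Bacharach property in degree `n` -/
def CBprop (Z : Finset (Projectivization k (ι → k))) (n : ℕ) : Prop :=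
  ∀ z ∈ Z, ∀ p : MvPolynomial ι k, p.IsHomogeneous n →
    (∀ z' ∈ Z, z' ≠ z → eval z'.rep p = 0) → eval z.rep p = 0

lemma CBprop.filter {Z : Finset (Projectivization k (ι → k))} {n : ℕ} (h : CBprop Z (n + 1))
    (f : (ι → k) →ₗ[k] k) [DecidablePred (fun z : Projectivization k (ι → k) => f z.rep ≠ 0)] :
    CBprop (Z.filter (fun z => f z.rep ≠ 0)) n := by
  intro z hz G hG hvan
  rw [Finset.mem_filter] at hz
  have h1 := h z hz.1 (linForm f * G)
    (by have := (linForm_isHomogeneous f).mul hG; rwa [add_comm] at this) ?_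
  · rw [map_mul, eval_linForm] at h1
    exact (mul_eq_zero.1 h1).resolve_left hz.2
  · intro z' hz' hne
    rw [map_mul, eval_linForm]
    by_cases hf : f z'.rep = 0
    · rw [hf, zero_mul]
    · rw [hvan z' (Finset.mem_filter.2 ⟨hz', hf⟩) hne, mul_zero]

lemma rep_mem_submodule_iff {z z' : Projectivization k (ι → k)} :
    z.rep ∈ z'.submodule ↔ z = z' := by
  constructor
  · intro hmem
    rw [Projectivization.submodule_eq, Submodule.mem_span_singleton] at hmem
    obtain ⟨a, ha⟩ := hmem
    rw [← Projectivization.mk_rep z, ← Projectivization.mk_rep z', Projectivization.mk_eq_mk_iff']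
    exact ⟨a, ha⟩
  · rintro rfl
    rw [Projectivization.submodule_eq]
    exact Submodule.mem_span_singleton_self _

lemma submodule_le_iff {z : Projectivization k (ι → k)} {W : Submodule k (ι → k)} :
    z.submodule ≤ W ↔ z.rep ∈ W := by
  rw [Projectivization.submodule_eq, Submodule.span_singleton_le_iff_mem]

lemma exists_sep {z z' : Projectivization k (ι → k)} (hne : z' ≠ z) :
    ∃ f : (ι → k) →ₗ[k] k, f z'.rep = 0 ∧ f z.rep ≠ 0 := by
  have hnot : z.rep ∉ z'.submodule := by
    intro hmem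
    exact hne (rep_mem_submodule_iff.1 hmem).symm
  obtain ⟨f, hf, hle⟩ := Submodule.exists_le_ker_of_notMem hnot
  exact ⟨f, hle (rep_mem_submodule_iff.2 rfl), hf⟩

lemma CBprop.card_ge {Z : Finset (Projectivization k (ι → k))} {n : ℕ} (h : CBprop Z n)
    (hZ : Z.Nonempty) : n + 2 ≤ Z.card := by
  classical
  by_contra hlt
  rw [not_le] at hlt
  obtain ⟨z, hz⟩ := hZ
  have hsep : ∀ z' : Projectivization k (ι → k), ∃ f : (ι → k) →ₗ[k] k,
      f z.rep ≠ 0 ∧ (z' ≠ z → f z'.rep = 0) := by
    intro z'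
    by_cases hne : z' = z
    · obtain ⟨f, hf, -⟩ := Submodule.exists_le_ker_of_notMem (p := (⊥ : Submodule k (ι → k)))
        (v := z.rep) (by simpa using z.rep_nonzero)
      exact ⟨f, hf, fun h => absurd hne h⟩
    · obtain ⟨f, h1, h2⟩ := exists_sep hne
      exact ⟨f, h2, fun _ => h1⟩
  choose F hF1 hF2 using hsep
  let G : MvPolynomial ι k :=
    (∏ z' ∈ Z.erase z, linForm (F z')) * (linForm (F z)) ^ (n - (Z.card - 1))
  have hG : G.IsHomogeneous n := by
    have h1 : (∏ z' ∈ Z.erase z, linForm (F z')).IsHomogeneous (∑ z' ∈ Z.erase z, 1) :=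
      IsHomogeneous.prod _ _ _ (fun i _ => linForm_isHomogeneous _)
    have h2 := (linForm_isHomogeneous (F z)).pow (n - (Z.card - 1))
    have h3 := h1.mul h2
    convert h3 using 1
    rw [Finset.sum_const, Finset.card_erase_of_mem hz, smul_eq_mul, mul_one, one_mul]
    omega
  have hvan : ∀ z' ∈ Z, z' ≠ z → eval z'.rep G = 0 := by
    intro z' hz' hne
    show eval z'.rep ((∏ z' ∈ Z.erase z, linForm (F z')) * (linForm (F z)) ^ (n - (Z.card - 1))) = 0
    rw [map_mul, map_prod]
    rw [Finset.prod_eq_zero (Finset.mem_erase.2 ⟨hne, hz'⟩)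
      (by rw [eval_linForm]; exact hF2 z' hne), zero_mul]
  have h0 := h z hz G hG hvan
  have h0' : eval z.rep ((∏ z' ∈ Z.erase z, linForm (F z'))
      * (linForm (F z)) ^ (n - (Z.card - 1))) = 0 := h0
  rw [map_mul, map_prod, map_pow] at h0'
  rcases mul_eq_zero.1 h0' with h0 | h0
  · rw [Finset.prod_eq_zero_iff] at h0
    obtain ⟨z', _, hz'0⟩ := h0
    rw [eval_linForm] at hz'0
    exact hF1 z' hz'0
  · rw [eval_linForm] at h0
    exact pow_ne_zero _ (hF1 z) h0

lemma exists_line {p q : Projectivization k (ι → k)} (hpq : p ≠ q) :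
    ∃ W : Submodule k (ι → k), Module.finrank k W = 2 ∧ p.submodule ≤ W ∧ q.submodule ≤ W := by
  refine ⟨Submodule.span k (Set.range ![p.rep, q.rep]), ?_, ?_, ?_⟩
  · have hind : LinearIndependent k ![p.rep, q.rep] :=
      Projectivization.linearIndependent_pair_iff_ne.2 hpq
    rw [finrank_span_eq_card hind]
    simp
  · rw [submodule_le_iff]
    exact Submodule.subset_span ⟨0, rfl⟩
  · rw [submodule_le_iff]
    exact Submodule.subset_span ⟨1, rfl⟩

/-- removing a hyperplane through a line `W` missing `z0` -/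
lemma CBprop.exists_off_line {Z : Finset (Projectivization k (ι → k))} {n : ℕ}
    (h : CBprop Z (n + 1)) (W : Submodule k (ι → k)) {z0 : Projectivization k (ι → k)}
    (hz0 : z0 ∈ Z) (hz0W : ¬ z0.submodule ≤ W)
    [DecidablePred (fun z : Projectivization k (ι → k) => z.submodule ≤ W)] :
    ∃ Z' : Finset (Projectivization k (ι → k)), Z' ⊆ Z ∧ Z'.Nonempty ∧ CBprop Z' n ∧
      Z'.card + (Z.filter (fun z => z.submodule ≤ W)).card ≤ Z.card := by
  classical
  rw [submodule_le_iff] at hz0W
  obtain ⟨f, hf, hle⟩ := Submodule.exists_le_ker_of_notMem hz0W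
  refine ⟨Z.filter (fun z => f z.rep ≠ 0), Finset.filter_subset _ _,
    ⟨z0, Finset.mem_filter.2 ⟨hz0, hf⟩⟩, h.filter f, ?_⟩
  rw [← Finset.card_union_of_disjoint]
  · apply Finset.card_le_card
    apply Finset.union_subset (Finset.filter_subset _ _) (Finset.filter_subset _ _)
  · rw [Finset.disjoint_filter]
    intro z _ hfz hzW
    rw [submodule_le_iff] at hzW
    exact hfz (hle hzW)

theorem CBprop.main (n : ℕ) : ∀ Z : Finset (Projectivization k (ι → k)), Z.Nonempty →
    CBprop Z n → n + 2 ≤ Z.card ∧ (Z.card ≤ 2 * n + 1 →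
      ∃ W : Submodule k (ι → k), Module.finrank k W = 2 ∧ ∀ z ∈ Z, z.submodule ≤ W) := by
  classical
  induction n with
  | zero =>
    intro Z hZ h
    have h1 := h.card_ge hZ
    refine ⟨h1, fun h2 => ?_⟩
    omega
  | succ n ih =>
    intro Z hZ h
    have h1 := h.card_ge hZ
    refine ⟨h1, fun h2 => ?_⟩
    obtain ⟨p, hp, q, hq, hpq⟩ := Finset.one_lt_card.1 (by omega : 1 < Z.card)
    obtain ⟨L, hL, hpL, hqL⟩ := exists_line hpq
    by_cases hall : ∀ z ∈ Z, z.submodule ≤ L
    · exact ⟨L, hL, hall⟩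
    rw [not_forall] at hall
    obtain ⟨z0, hz0⟩ := hall
    rw [Classical.not_imp] at hz0
    obtain ⟨Z', hZ'sub, hZ'ne, hZ'CB, hZ'card⟩ := h.exists_off_line L hz0.1 hz0.2
    have hL2 : 2 ≤ (Z.filter (fun z => z.submodule ≤ L)).card := by
      have : ({p, q} : Finset (Projectivization k (ι → k))) ⊆ Z.filter (fun z => z.submodule ≤ L) := by
        intro x hx
        rw [Finset.mem_insert, Finset.mem_singleton] at hx
        rcases hx with rfl | rfl
        · exact Finset.mem_filter.2 ⟨hp, hpL⟩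
        · exact Finset.mem_filter.2 ⟨hq, hqL⟩
      have h3 := Finset.card_le_card this
      rwa [Finset.card_pair hpq] at h3
    obtain ⟨hc1, hc2⟩ := ih Z' hZ'ne hZ'CB
    obtain ⟨W', hW', hZ'W'⟩ := hc2 (by omega)
    by_cases hall' : ∀ z ∈ Z, z.submodule ≤ W'
    · exact ⟨W', hW', hall'⟩
    exfalso
    rw [not_forall] at hall'
    obtain ⟨z1, hz1⟩ := hall'
    rw [Classical.not_imp] at hz1
    obtain ⟨Z'', _, hZ''ne, hZ''CB, hZ''card⟩ := h.exists_off_line W' hz1.1 hz1.2
    obtain ⟨hd1, _⟩ := ih Z'' hZ''ne hZ''CB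
    have hsub : Z' ⊆ Z.filter (fun z => z.submodule ≤ W') := by
      intro x hx
      exact Finset.mem_filter.2 ⟨hZ'sub hx, hZ'W' x hx⟩
    have := Finset.card_le_card hsub
    omega

end

end Groth.Agent.H90.CB
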