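import Mathlib

set_option autoImplicit false

namespace Groth.Agent.H90.CB

open Module

section
variable {k : Type*} [Field k] {ι : Type*} [Fintype ι] [DecidableEq ι]

/-- the annihilator of a subspace under the standard dot product -/
def dotAnn (V : Submodule k (ι → k)) : Submodule k (ι → k) where
  carrier := {l | ∀ v ∈ V, ∑ i, l i * v i = 0}
  add_mem' := by
    intro a b ha hb v hv
    have := ha v hv
    have := hb v hv
    simp only [Pi.add_apply, add_mul, Finset.sum_add_distrib, *, add_zero]
  zero_mem' := by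
    intro v _
    simp
  smul_mem' := by
    intro c a ha v hv
    have := ha v hv
    simp only [Pi.smul_apply, smul_eq_mul, mul_assoc, ← Finset.mul_sum, this, mul_zero]

theorem exists_mem_dotAnn_ne (V : Submodule k (ι → k)) (i : ι)
    (hi : (Pi.single i 1 : ι → k) ∉ V) : ∃ l ∈ dotAnn V, l i ≠ 0 := by
  obtain ⟨f, hf, hV⟩ := Submodule.exists_le_ker_of_notMem hi
  refine ⟨fun j => f (Pi.single j 1), ?_, hf⟩
  intro v hv
  have h0 : f v = 0 := LinearMap.mem_ker.mp (hV hv)
  have hv' : v = ∑ j, v j • (Pi.single j 1 : ι → k) := by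
    ext x
    simp [Finset.sum_apply, Pi.single_apply]
  rw [hv', map_sum] at h0
  rw [← h0]
  apply Finset.sum_congr rfl
  intro j _
  rw [map_smul, smul_eq_mul, mul_comm]

theorem exists_mem_dotAnn_all_ne [Infinite k] (V : Submodule k (ι → k))
    (hV : ∀ i, (Pi.single i 1 : ι → k) ∉ V) : ∃ l ∈ dotAnn V, ∀ i, l i ≠ 0 := by
  classical
  let W := dotAnn V
  let H : ι → Submodule k W := fun i =>
    (LinearMap.ker (LinearMap.proj (R := k) (φ := fun _ : ι => k) i)).comap W.subtype
  have hH : ∀ i, H i ≠ ⊤ := by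
    intro i htop
    obtain ⟨l, hl, hli⟩ := exists_mem_dotAnn_ne V i (hV i)
    have : (⟨l, hl⟩ : W) ∈ H i := by rw [htop]; exact Submodule.mem_top
    exact hli (LinearMap.mem_ker.mp (Submodule.mem_comap.mp this))
  have hne := Subspace.biUnion_ne_univ_of_top_notMem (k := k) (E := W)
    (s := Finset.univ.image H) (by
      intro hmem
      obtain ⟨i, _, hi⟩ := Finset.mem_image.mp hmem
      exact hH i hi)
  obtain ⟨l, hl⟩ := (Set.ne_univ_iff_exists_notMem _).mp hne
  refine ⟨l.1, l.2, fun i hli => hl ?_⟩
  simp only [Set.mem_iUnion]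
  refine ⟨H i, Finset.mem_image_of_mem H (Finset.mem_univ i), ?_⟩
  exact Submodule.mem_comap.mpr (LinearMap.mem_ker.mpr hli)

theorem finrank_add_le_of_ortho (l : ι → k) (hl : ∀ i, l i ≠ 0) (A B : Submodule k (ι → k))
    (h : ∀ a ∈ A, ∀ b ∈ B, ∑ i, l i * (a i * b i) = 0) :
    finrank k A + finrank k B ≤ Fintype.card ι := by
  let Bil := Matrix.toBilin' (Matrix.diagonal l)
  have hBil : ∀ a b : ι → k, Bil a b = ∑ i, l i * (a i * b i) := by
    intro a b
    show Matrix.toBilin' (Matrix.diagonal l) a b = _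
    rw [Matrix.toBilin'_apply]
    apply Finset.sum_congr rfl
    intro i _
    rw [Finset.sum_eq_single i]
    · rw [Matrix.diagonal_apply_eq]; ring
    · intro j _ hj
      rw [Matrix.diagonal_apply_ne _ hj.symm]; ring
    · intro hi; exact absurd (Finset.mem_univ i) hi
  have hnd : Bil.Nondegenerate := by
    apply LinearMap.BilinForm.nondegenerate_toBilin'_of_det_ne_zero'
    rw [Matrix.det_diagonal]
    exact Finset.prod_ne_zero_iff.mpr (fun i _ => hl i)
  have hle : B ≤ Bil.orthogonal A := by
    intro b hb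
    rw [LinearMap.BilinForm.mem_orthogonal_iff]
    intro a ha
    show Bil a b = 0
    rw [hBil]
    exact h a ha b hb
  have h1 := Submodule.finrank_mono hle
  rw [LinearMap.BilinForm.finrank_orthogonal hnd, Module.finrank_pi] at h1
  have h2 : finrank k A ≤ Fintype.card ι := by
    have := Submodule.finrank_le A
    rwa [Module.finrank_pi] at this
  omega

end

end Groth.Agent.H90.CB
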