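import Mathlib
import Groth.Agent.H90.CB.Lin

set_option autoImplicit false

namespace Groth.Agent.H90.CB

open Module MvPolynomial

section
variable {k : Type*} [Field k] {ι : Type*} {σ : Type*}

/-- evaluation of forms of degree `d` at a family of points -/
noncomputable def evD (pt : ι → σ → k) (d : ℕ) :
    ↥(homogeneousSubmodule σ k d) →ₗ[k] (ι → k) :=
  (LinearMap.pi fun i : ι => (MvPolynomial.aeval (R := k) (pt i)).toLinearMap) ∘ₗ
    (homogeneousSubmodule σ k d).subtype

theorem evD_apply (pt : ι → σ → k) (d : ℕ) (p : ↥(homogeneousSubmodule σ k d)) (i : ι) :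
    evD pt d p i = eval (pt i) p.1 := rfl

variable [Fintype ι] [DecidableEq ι]

theorem cb_rank [Infinite k] (pt : ι → σ → k) (n : ℕ)
    (hCB : ∀ i, ∀ p : MvPolynomial σ k, p.IsHomogeneous n →
      (∀ j, j ≠ i → eval (pt j) p = 0) → eval (pt i) p = 0)
    (m : ℕ) (hm : m ≤ n) :
    (∃ s : MvPolynomial σ k, s.IsHomogeneous (n - m) ∧ s ≠ 0 ∧ ∀ i, eval (pt i) s = 0) ∨
      finrank k (LinearMap.range (evD pt m)) + finrank k ↥(homogeneousSubmodule σ k (n - m))
        ≤ Fintype.card ι := by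
  by_cases hex : ∃ s : MvPolynomial σ k, s.IsHomogeneous (n - m) ∧ s ≠ 0 ∧ ∀ i, eval (pt i) s = 0
  · exact Or.inl hex
  right
  -- injectivity of evaluation in degree `n - m`
  have hinj : Function.Injective (evD pt (n - m)) := by
    rw [← LinearMap.ker_eq_bot, LinearMap.ker_eq_bot']
    intro s hs
    by_contra hne
    apply hex
    refine ⟨s.1, (mem_homogeneousSubmodule _ _).mp s.2, fun h0 => hne (Subtype.ext h0), ?_⟩
    intro i
    have := congrFun hs i
    rwa [evD_apply] at this
  rw [← LinearMap.finrank_range_of_inj hinj]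
  -- the orthogonality vector
  have hV : ∀ i, (Pi.single i 1 : ι → k) ∉ LinearMap.range (evD pt n) := by
    rintro i ⟨p, hp⟩
    have h1 : eval (pt i) p.1 = 1 := by
      rw [← evD_apply, hp, Pi.single_eq_same]
    have h0 : eval (pt i) p.1 = 0 := by
      apply hCB i p.1 ((mem_homogeneousSubmodule _ _).mp p.2)
      intro j hj
      rw [← evD_apply, hp, Pi.single_eq_of_ne hj]
    rw [h0] at h1
    exact zero_ne_one h1
  obtain ⟨l, hl, hl0⟩ := exists_mem_dotAnn_all_ne _ hV
  apply finrank_add_le_of_ortho l hl0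
  rintro a ⟨p, rfl⟩ b ⟨q, rfl⟩
  have hpq : (p.1 * q.1) ∈ homogeneousSubmodule σ k n := by
    rw [mem_homogeneousSubmodule]
    have := ((mem_homogeneousSubmodule _ _).mp p.2).mul ((mem_homogeneousSubmodule _ _).mp q.2)
    rwa [Nat.add_sub_cancel' hm] at this
  have := hl (evD pt n ⟨p.1 * q.1, hpq⟩) ⟨_, rfl⟩
  rw [← this]
  apply Finset.sum_congr rfl
  intro i _
  rw [evD_apply, evD_apply, evD_apply, map_mul]

end

end Groth.Agent.H90.CB
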