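import Mathlib
import Groth.Agent.H90.CB.Collinear

set_option autoImplicit false
set_option linter.unusedSectionVars false

namespace Groth.Agent.H90.CB

open MvPolynomial Module

section
variable {k : Type*} [Field k]

lemma card_add_le_of_disjoint {α : Type*} [DecidableEq α] {A B Z : Finset α} (hA : A ⊆ Z)
    (hB : B ⊆ Z) (hd : Disjoint A B) : A.card + B.card ≤ Z.card := by
  rw [← Finset.card_union_of_disjoint hd]
  exact Finset.card_le_card (Finset.union_subset hA hB)

lemma card_add_add_le_of_disjoint {α : Type*} [DecidableEq α] {A B C Z : Finset α} (hA : A ⊆ Z)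
    (hB : B ⊆ Z) (hC : C ⊆ Z) (hAB : Disjoint A B) (hAC : Disjoint A C) (hBC : Disjoint B C) :
    A.card + B.card + C.card ≤ Z.card := by
  rw [← Finset.card_union_of_disjoint hAB]
  apply card_add_le_of_disjoint (Finset.union_subset hA hB) hC
  rw [Finset.disjoint_union_left]
  exact ⟨hAC, hBC⟩

/-- a subspace of `k⁴` of dimension `≤ 3` lies in the kernel of a nonzero functional -/
lemma exists_functional_of_finrank_le (U : Submodule k (Fin 4 → k)) (hU : finrank k U ≤ 3) :
    ∃ f : (Fin 4 → k) →ₗ[k] k, f ≠ 0 ∧ U ≤ LinearMap.ker f := by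
  have hne : U ≠ ⊤ := by
    intro h
    rw [h, finrank_top, Module.finrank_fin_fun] at hU
    omega
  obtain ⟨v, hv⟩ : ∃ v, v ∉ U := by
    by_contra hcon
    rw [not_exists] at hcon
    apply hne
    rw [eq_top_iff]
    intro v _
    exact not_not.1 (hcon v)
  obtain ⟨f, hf, hle⟩ := Submodule.exists_le_ker_of_notMem hv
  refine ⟨f, ?_, hle⟩
  intro h0
  rw [h0] at hf
  exact hf rfl

lemma exists_functional_line_point (W : Submodule k (Fin 4 → k)) (hW : finrank k W = 2)
    (v : Fin 4 → k) :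
    ∃ f : (Fin 4 → k) →ₗ[k] k, f ≠ 0 ∧ W ≤ LinearMap.ker f ∧ f v = 0 := by
  have h1 : finrank k (W ⊔ Submodule.span k {v} : Submodule k (Fin 4 → k)) ≤ 3 := by
    have h3 := Submodule.finrank_add_le_finrank_add_finrank W (Submodule.span k {v})
    have h2 : finrank k (Submodule.span k ({v} : Set (Fin 4 → k))) ≤ 1 := by
      have := finrank_span_le_card (R := k) ({v} : Set (Fin 4 → k))
      simpa using this
    omega
  obtain ⟨f, hf, hle⟩ := exists_functional_of_finrank_le _ h1
  exact ⟨f, hf, le_sup_left.trans hle,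
    hle (Submodule.mem_sup_right (Submodule.mem_span_singleton_self v))⟩

/-- all points in the kernel of a nonzero functional -/
def Coplanar (Z : Finset (Projectivization k (Fin 4 → k))) : Prop :=
  ∃ f : (Fin 4 → k) →ₗ[k] k, f ≠ 0 ∧ ∀ z ∈ Z, f z.rep = 0

open scoped Classical in
/-- the two-skew-lines alternative -/
def SkewConcl (Z : Finset (Projectivization k (Fin 4 → k))) (n : ℕ) : Prop :=
  ∃ W₁ W₂ : Submodule k (Fin 4 → k), finrank k W₁ = 2 ∧ finrank k W₂ = 2 ∧ W₁ ⊓ W₂ = ⊥ ∧
    (∀ z ∈ Z, z.submodule ≤ W₁ ∨ z.submodule ≤ W₂) ∧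
    n + 1 ≤ (Z.filter (fun z => z.submodule ≤ W₁)).card ∧
    n + 1 ≤ (Z.filter (fun z => z.submodule ≤ W₂)).card ∧ 2 * n + 3 ≤ Z.card

open scoped Classical in
lemma exists_plane_card (Z : Finset (Projectivization k (Fin 4 → k)))
    (W : Submodule k (Fin 4 → k)) (hW : finrank k W = 2)
    (S : Finset (Projectivization k (Fin 4 → k))) (hS : S ⊆ Z)
    (hSW : ∀ s ∈ S, s.submodule ≤ W) {z : Projectivization k (Fin 4 → k)} (hz : z ∈ Z)
    (hzW : z.rep ∉ W) :
    ∃ f : (Fin 4 → k) →ₗ[k] k, f ≠ 0 ∧ S.card + 1 ≤ (Z.filter (fun z => f z.rep = 0)).card := by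
  obtain ⟨f, hf, hle, hfz⟩ := exists_functional_line_point W hW z.rep
  refine ⟨f, hf, ?_⟩
  have hzS : z ∉ S := fun h => hzW (submodule_le_iff.1 (hSW z h))
  rw [← Finset.card_insert_of_notMem hzS]
  apply Finset.card_le_card
  intro s hs
  rw [Finset.mem_insert] at hs
  rcases hs with rfl | hs
  · exact Finset.mem_filter.2 ⟨hz, hfz⟩
  · exact Finset.mem_filter.2 ⟨hS hs, hle (submodule_le_iff.1 (hSW s hs))⟩

open scoped Classical in
lemma nonempty_off_of_not_coplanar {Z : Finset (Projectivization k (Fin 4 → k))}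
    (hnc : ¬ Coplanar Z) (f : (Fin 4 → k) →ₗ[k] k) (hf : f ≠ 0) :
    (Z.filter (fun z => f z.rep ≠ 0)).Nonempty := by
  by_contra hemp
  rw [Finset.not_nonempty_iff_eq_empty] at hemp
  apply hnc
  refine ⟨f, hf, fun z hz => ?_⟩
  by_contra hz0
  have : z ∈ Z.filter (fun z => f z.rep ≠ 0) := Finset.mem_filter.2 ⟨hz, hz0⟩
  rw [hemp] at this
  exact absurd this (Finset.notMem_empty _)

open scoped Classical in
theorem skew_of_big_plane {Z : Finset (Projectivization k (Fin 4 → k))} {m : ℕ}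
    (hCB : CBprop Z (m + 1)) (hcard : Z.card ≤ 3 * m + 4) (hnc : ¬ Coplanar Z)
    (f0 : (Fin 4 → k) →ₗ[k] k) (hf0 : f0 ≠ 0)
    (hbig : m + 3 ≤ (Z.filter (fun z => f0 z.rep = 0)).card) :
    SkewConcl Z (m + 1) := by
  have hne := nonempty_off_of_not_coplanar hnc
  set Z' := Z.filter (fun z => f0 z.rep ≠ 0) with hZ'
  have hZ'sub : Z' ⊆ Z := Finset.filter_subset _ _
  have hZ'CB : CBprop Z' m := hCB.filter f0
  have hsplit0 : Z'.card + (Z.filter (fun z => f0 z.rep = 0)).card ≤ Z.card := by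
    apply card_add_le_of_disjoint hZ'sub (Finset.filter_subset _ _)
    rw [Finset.disjoint_filter]
    intro z _ h1 h2
    exact h1 h2
  obtain ⟨hZ'1, hZ'2⟩ := CBprop.main m Z' (hne f0 hf0) hZ'CB
  obtain ⟨L', hL', hZ'L'⟩ := hZ'2 (by omega)
  -- a point off `L'`
  obtain ⟨f', hf', hL'f'⟩ := exists_functional_of_finrank_le L' (by omega)
  obtain ⟨z, hz⟩ := hne f' hf'
  rw [Finset.mem_filter] at hz
  have hzL' : z.rep ∉ L' := fun h => hz.2 (hL'f' h)
  obtain ⟨f1, hf1, hL'f1, hf1z⟩ := exists_functional_line_point L' hL' z.rep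
  set Z'' := Z.filter (fun z => f1 z.rep ≠ 0) with hZ''
  have hZ''sub : Z'' ⊆ Z := Finset.filter_subset _ _
  have hZ''CB : CBprop Z'' m := hCB.filter f1
  have hdis : Disjoint Z' Z'' := by
    rw [Finset.disjoint_left]
    intro s hs hs'
    exact (Finset.mem_filter.1 hs').2 (hL'f1 (submodule_le_iff.1 (hZ'L' s hs)))
  have h3 : Z'.card + Z''.card + 1 ≤ Z.card := by
    have := card_add_add_le_of_disjoint hZ'sub hZ''sub
      (Finset.singleton_subset_iff.2 hz.1) hdis
      (by
        rw [Finset.disjoint_singleton_right]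
        intro h
        exact hzL' (submodule_le_iff.1 (hZ'L' z h)))
      (by
        rw [Finset.disjoint_singleton_right]
        intro h
        exact (Finset.mem_filter.1 h).2 hf1z)
    simpa using this
  obtain ⟨hZ''1, hZ''2⟩ := CBprop.main m Z'' (hne f1 hf1) hZ''CB
  obtain ⟨L'', hL'', hZ''L''⟩ := hZ''2 (by omega)
  -- the remainder is small
  have hR : ∀ S : Finset (Projectivization k (Fin 4 → k)), S ⊆ Z →
      (∀ s ∈ S, s ∉ Z' ∧ s ∉ Z'') → S.card ≤ m := by
    intro S hS hdisS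
    have := card_add_add_le_of_disjoint hZ'sub hZ''sub hS hdis
      (by
        rw [Finset.disjoint_right]
        intro s hs
        exact (hdisS s hs).1)
      (by
        rw [Finset.disjoint_right]
        intro s hs
        exact (hdisS s hs).2)
    omega
  -- skew
  have hskew : L' ⊓ L'' = ⊥ := by
    by_contra hnb
    have hfr : finrank k (L' ⊔ L'' : Submodule k (Fin 4 → k)) ≤ 3 := by
      have h1 := Submodule.finrank_sup_add_finrank_inf_eq L' L''
      have h2 : 1 ≤ finrank k (L' ⊓ L'' : Submodule k (Fin 4 → k)) := by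
        rw [Nat.one_le_iff_ne_zero, Ne, Submodule.finrank_eq_zero]
        exact hnb
      omega
    obtain ⟨f2, hf2, hle2⟩ := exists_functional_of_finrank_le _ hfr
    have hsub : ∀ s ∈ Z.filter (fun z => f2 z.rep ≠ 0), s ∉ Z' ∧ s ∉ Z'' := by
      intro s hs
      rw [Finset.mem_filter] at hs
      constructor
      · intro hs'
        exact hs.2 (hle2 (Submodule.mem_sup_left (submodule_le_iff.1 (hZ'L' s hs'))))
      · intro hs'
        exact hs.2 (hle2 (Submodule.mem_sup_right (submodule_le_iff.1 (hZ''L'' s hs'))))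
    have hc := hR _ (Finset.filter_subset _ _) hsub
    have := (hCB.filter f2).card_ge (hne f2 hf2)
    omega
  -- covering
  have hcover : ∀ r ∈ Z, r.submodule ≤ L' ∨ r.submodule ≤ L'' := by
    intro r hr
    by_contra hcon
    rw [not_or] at hcon
    obtain ⟨hr1, hr2⟩ := hcon
    rw [submodule_le_iff] at hr1 hr2
    obtain ⟨g', hg', hg'L⟩ := Submodule.exists_le_ker_of_notMem hr1
    obtain ⟨g'', hg'', hg''L⟩ := Submodule.exists_le_ker_of_notMem hr2
    have hmem : r ∈ (Z.filter (fun z => g' z.rep ≠ 0)).filter (fun z => g'' z.rep ≠ 0) :=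
      Finset.mem_filter.2 ⟨Finset.mem_filter.2 ⟨hr, hg'⟩, hg''⟩
    have h2 := hR ((Z.filter (fun z => g' z.rep ≠ 0)).filter (fun z => g'' z.rep ≠ 0))
      ((Finset.filter_subset _ _).trans (Finset.filter_subset _ _))
      (by
        intro s hs
        rw [Finset.mem_filter, Finset.mem_filter] at hs
        constructor
        · intro hs'
          exact hs.1.2 (hg'L (submodule_le_iff.1 (hZ'L' s hs')))
        · intro hs'
          exact hs.2 (hg''L (submodule_le_iff.1 (hZ''L'' s hs'))))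
    have hpos : 0 < ((Z.filter (fun z => g' z.rep ≠ 0)).filter (fun z => g'' z.rep ≠ 0)).card :=
      Finset.card_pos.2 ⟨r, hmem⟩
    rcases Nat.eq_zero_or_pos m with hm0 | hmpos
    · omega
    · obtain ⟨m', hm'⟩ : ∃ m', m = m' + 1 := ⟨m - 1, by omega⟩
      have hCB1 : CBprop (Z.filter (fun z => g' z.rep ≠ 0)) (m' + 1) := by
        have := hCB.filter g'
        rwa [hm'] at this
      have hCB2 := hCB1.filter g''
      have h1 := hCB2.card_ge ⟨r, hmem⟩
      omega
  refine ⟨L', L'', hL', hL'', hskew, hcover, ?_, ?_, ?_⟩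
  · calc m + 1 + 1 ≤ Z'.card := hZ'1
      _ ≤ _ := Finset.card_le_card (fun s hs =>
        Finset.mem_filter.2 ⟨hZ'sub hs, hZ'L' s hs⟩)
  · calc m + 1 + 1 ≤ Z''.card := hZ''1
      _ ≤ _ := Finset.card_le_card (fun s hs =>
        Finset.mem_filter.2 ⟨hZ''sub hs, hZ''L'' s hs⟩)
  · omega


open scoped Classical in
theorem exists_big_plane {Z : Finset (Projectivization k (Fin 4 → k))} {m : ℕ}
    (hCB : CBprop Z (m + 1)) (hcard : Z.card ≤ 3 * m + 4) (hnc : ¬ Coplanar Z)
    (hprev : 1 ≤ m → ∀ Z' : Finset (Projectivization k (Fin 4 → k)), CBprop Z' m →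
      Z'.card ≤ 3 * m + 1 → Coplanar Z' ∨ SkewConcl Z' m) :
    ∃ f0 : (Fin 4 → k) →ₗ[k] k, f0 ≠ 0 ∧ m + 3 ≤ (Z.filter (fun z => f0 z.rep = 0)).card := by
  have hne := nonempty_off_of_not_coplanar hnc
  -- `Z` is nonempty
  have hZne : Z.Nonempty := by
    by_contra hemp
    rw [Finset.not_nonempty_iff_eq_empty] at hemp
    apply hnc
    refine ⟨LinearMap.proj 0, ?_, ?_⟩
    · intro h0
      have := congrArg (fun g : (Fin 4 → k) →ₗ[k] k => g (Pi.single 0 1)) h0
      simp at this
    · intro z hz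
      rw [hemp] at hz
      exact absurd hz (Finset.notMem_empty _)
  have hcard3 := hCB.card_ge hZne
  -- three points on a plane
  obtain ⟨p, q, r, hp, hq, hr, hpq, hpr, hqr⟩ := Finset.two_lt_card_iff.1 (by omega : 2 < Z.card)
  have hU : finrank k (Submodule.span k (Set.range ![p.rep, q.rep, r.rep])) ≤ 3 := by
    have := finrank_range_le_card (R := k) ![p.rep, q.rep, r.rep]
    simpa [Set.finrank] using this
  obtain ⟨f, hf, hle⟩ := exists_functional_of_finrank_le _ hU
  have h3 : 3 ≤ (Z.filter (fun z => f z.rep = 0)).card := by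
    have hsub : ({p, q, r} : Finset (Projectivization k (Fin 4 → k)))
        ⊆ Z.filter (fun z => f z.rep = 0) := by
      intro s hs
      rw [Finset.mem_insert, Finset.mem_insert, Finset.mem_singleton] at hs
      rcases hs with rfl | rfl | rfl
      · exact Finset.mem_filter.2 ⟨hp, hle (Submodule.subset_span ⟨0, rfl⟩)⟩
      · exact Finset.mem_filter.2 ⟨hq, hle (Submodule.subset_span ⟨1, rfl⟩)⟩
      · exact Finset.mem_filter.2 ⟨hr, hle (Submodule.subset_span ⟨2, rfl⟩)⟩
    have hc : ({p, q, r} : Finset (Projectivization k (Fin 4 → k))).card = 3 :=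
      Finset.card_eq_three.2 ⟨p, q, r, hpq, hpr, hqr, rfl⟩
    have := Finset.card_le_card hsub
    omega
  set Z' := Z.filter (fun z => f z.rep ≠ 0) with hZ'
  have hZ'sub : Z' ⊆ Z := Finset.filter_subset _ _
  have hZ'CB : CBprop Z' m := hCB.filter f
  have hsplit : Z'.card + (Z.filter (fun z => f z.rep = 0)).card ≤ Z.card := by
    apply card_add_le_of_disjoint hZ'sub (Finset.filter_subset _ _)
    rw [Finset.disjoint_filter]
    intro z _ h1 h2
    exact h1 h2
  obtain ⟨hZ'1, hZ'2⟩ := CBprop.main m Z' (hne f hf) hZ'CB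
  -- helper: a line with many points of `Z'` and a point of `Z` off it
  have key : ∀ (W : Submodule k (Fin 4 → k)), finrank k W = 2 →
      m + 2 ≤ (Z'.filter (fun z => z.submodule ≤ W)).card →
      (∃ z ∈ Z, z.rep ∉ W) →
      ∃ f0 : (Fin 4 → k) →ₗ[k] k, f0 ≠ 0 ∧ m + 3 ≤ (Z.filter (fun z => f0 z.rep = 0)).card := by
    intro W hW hWc ⟨z, hz, hzW⟩
    obtain ⟨f0, hf0, hc⟩ := exists_plane_card Z W hW (Z'.filter (fun z => z.submodule ≤ W))
      ((Finset.filter_subset _ _).trans hZ'sub) (fun s hs => (Finset.mem_filter.1 hs).2) hz hzW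
    exact ⟨f0, hf0, by omega⟩
  by_cases hsmall : Z'.card ≤ 2 * m + 1
  · obtain ⟨L', hL', hZ'L'⟩ := hZ'2 hsmall
    obtain ⟨f', hf', hL'f'⟩ := exists_functional_of_finrank_le L' (by omega)
    obtain ⟨z, hz⟩ := hne f' hf'
    rw [Finset.mem_filter] at hz
    have hzL' : z.rep ∉ L' := fun h => hz.2 (hL'f' h)
    apply key L' hL' _ ⟨z, hz.1, hzL'⟩
    have : Z'.filter (fun z => z.submodule ≤ L') = Z' := by
      apply Finset.filter_true_of_mem
      exact hZ'L'
    rw [this]
    exact hZ'1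
  · rw [not_le] at hsmall
    have hm1 : 1 ≤ m := by omega
    rcases hprev hm1 Z' hZ'CB (by omega) with hcop | hsk
    · obtain ⟨f', hf', hZ'f'⟩ := hcop
      refine ⟨f', hf', ?_⟩
      have : Z' ⊆ Z.filter (fun z => f' z.rep = 0) := by
        intro s hs
        exact Finset.mem_filter.2 ⟨hZ'sub hs, hZ'f' s hs⟩
      have := Finset.card_le_card this
      omega
    · obtain ⟨W₁, W₂, hW₁, hW₂, hinf, hcov, ha, hb, htot⟩ := hsk
      have hab : Z'.card ≤ (Z'.filter (fun z => z.submodule ≤ W₁)).card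
          + (Z'.filter (fun z => z.submodule ≤ W₂)).card := by
        have hsub : Z' ⊆ Z'.filter (fun z => z.submodule ≤ W₁)
            ∪ Z'.filter (fun z => z.submodule ≤ W₂) := by
          intro s hs
          rw [Finset.mem_union]
          rcases hcov s hs with h | h
          · left; exact Finset.mem_filter.2 ⟨hs, h⟩
          · right; exact Finset.mem_filter.2 ⟨hs, h⟩
        exact (Finset.card_le_card hsub).trans (Finset.card_union_le _ _)
      -- a point of `Z'` on a line is off the other line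
      have hoff : ∀ (A B : Submodule k (Fin 4 → k)), A ⊓ B = ⊥ →
          ∀ s : Projectivization k (Fin 4 → k), s.submodule ≤ B → s.rep ∉ A := by
        intro A B hAB s hsB hsA
        rw [submodule_le_iff] at hsB
        have : s.rep ∈ A ⊓ B := ⟨hsA, hsB⟩
        rw [hAB, Submodule.mem_bot] at this
        exact s.rep_nonzero this
      by_cases hbig : m + 2 ≤ (Z'.filter (fun z => z.submodule ≤ W₁)).card
      · have hpos : 0 < (Z'.filter (fun z => z.submodule ≤ W₂)).card := by omega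
        obtain ⟨z2, hz2⟩ := Finset.card_pos.1 hpos
        rw [Finset.mem_filter] at hz2
        exact key W₁ hW₁ hbig ⟨z2, hZ'sub hz2.1, hoff W₁ W₂ hinf z2 hz2.2⟩
      · have hbig2 : m + 2 ≤ (Z'.filter (fun z => z.submodule ≤ W₂)).card := by omega
        have hpos : 0 < (Z'.filter (fun z => z.submodule ≤ W₁)).card := by omega
        obtain ⟨z1, hz1⟩ := Finset.card_pos.1 hpos
        rw [Finset.mem_filter] at hz1
        exact key W₂ hW₂ hbig2 ⟨z1, hZ'sub hz1.1,
          hoff W₂ W₁ (by rw [inf_comm]; exact hinf) z1 hz1.2⟩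

theorem CB_three_n (m : ℕ) : ∀ Z : Finset (Projectivization k (Fin 4 → k)),
    CBprop Z (m + 1) → Z.card ≤ 3 * m + 4 → Coplanar Z ∨ SkewConcl Z (m + 1) := by
  induction m with
  | zero =>
    intro Z hCB hcard
    by_cases hc : Coplanar Z
    · exact Or.inl hc
    · right
      obtain ⟨f0, hf0, hbig⟩ := exists_big_plane hCB hcard hc
        (fun h => absurd h (by norm_num))
      exact skew_of_big_plane hCB hcard hc f0 hf0 hbig
  | succ m ih =>
    intro Z hCB hcard
    by_cases hc : Coplanar Z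
    · exact Or.inl hc
    · right
      obtain ⟨f0, hf0, hbig⟩ := exists_big_plane hCB hcard hc
        (fun _ Z' h1 h2 => ih Z' h1 (by omega))
      exact skew_of_big_plane hCB hcard hc f0 hf0 hbig

theorem CB_three_n_final (Z : Finset (Projectivization k (Fin 4 → k))) (n : ℕ) (hn : 1 ≤ n)
    (hCB : CBprop Z n) (hcard : Z.card ≤ 3 * n + 1) :
    (∃ W : Submodule k (Fin 4 → k), Module.finrank k ↥W = 3 ∧ ∀ z ∈ Z, z.submodule ≤ W) ∨
      (∃ W₁ W₂ : Submodule k (Fin 4 → k), Module.finrank k ↥W₁ = 2 ∧ Module.finrank k ↥W₂ = 2 ∧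
        W₁ ⊓ W₂ = ⊥ ∧
        (∀ z ∈ Z, z.submodule ≤ W₁ ∨ z.submodule ≤ W₂) ∧
        n + 1 ≤ Set.ncard {z : Projectivization k (Fin 4 → k) | z ∈ Z ∧ z.submodule ≤ W₁} ∧
        n + 1 ≤ Set.ncard {z : Projectivization k (Fin 4 → k) | z ∈ Z ∧ z.submodule ≤ W₂} ∧
        2 * n + 3 ≤ Z.card) := by
  classical
  obtain ⟨m, rfl⟩ : ∃ m, n = m + 1 := ⟨n - 1, by omega⟩
  rcases CB_three_n m Z hCB (by omega) with hcop | hsk
  · left
    obtain ⟨f, hf, hZf⟩ := hcop
    refine ⟨LinearMap.ker f, ?_, ?_⟩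
    · have := Module.Dual.finrank_ker_add_one_of_ne_zero hf
      rw [Module.finrank_fin_fun] at this
      omega
    · intro z hz
      rw [submodule_le_iff]
      exact hZf z hz
  · right
    obtain ⟨W₁, W₂, hW₁, hW₂, hinf, hcov, ha, hb, htot⟩ := hsk
    refine ⟨W₁, W₂, hW₁, hW₂, hinf, hcov, ?_, ?_, htot⟩
    · have : {z : Projectivization k (Fin 4 → k) | z ∈ Z ∧ z.submodule ≤ W₁}
          = ↑(Z.filter (fun z => z.submodule ≤ W₁)) := by
        ext z; simp
      rw [this, Set.ncard_coe_finset]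
      convert ha
    · have : {z : Projectivization k (Fin 4 → k) | z ∈ Z ∧ z.submodule ≤ W₂}
          = ↑(Z.filter (fun z => z.submodule ≤ W₂)) := by
        ext z; simp
      rw [this, Set.ncard_coe_finset]
      convert hb

end

end Groth.Agent.H90.CB
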